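import Cfsg.Agent.H47.G23A.XDefs
import Cfsg.Agent.H47.G23.Std
import Cfsg.Agent.H47.G23.Out
import Cfsg.Agent.H47.G23.Top
import Cfsg.Agent.H55.G2Model
import Cfsg.Agent.H56.G2Map

/-!
From the involution centraliser of the amalgam to the identification with G2 over the field of three
elements.
-/

set_option autoImplicit false

namespace H40.G23A

open Subgroup Cfsg.Lie

/-- A field isomorphism induces an isomorphism of the groups of type G2. -/
noncomputable def g2Equiv {F K : Type*} [Field F] [Field K] (f : F ≃+* K) : G2 F ≃* G2 K :=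
  MonoidHom.toMulEquiv (H56G2.mapG2 f.toRingHom) (H56G2.mapG2 f.symm.toRingHom)
    (MonoidHom.ext fun g => Subtype.ext (Units.ext (Matrix.ext fun i j => by
      simp [H56G2.mapG2_apply])))
    (MonoidHom.ext fun g => Subtype.ext (Units.ext (Matrix.ext fun i j => by
      simp [H56G2.mapG2_apply])))

universe u

theorem final {G : Type u} [Group G] [Finite G] (F : H47.G23A.Frame G)
    (hE : H47.G23A.EightStmt.{u}) (hP : F.PairGoal) (hF : F.Fused)
    (K : Type*) [Field K] [Fintype K] (hK : Fintype.card K = 3) :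
    Nonempty (G ≃* ↥(G2 K)) := by
  obtain ⟨P, hz, hs, hsout, hp, hi1, hi2⟩ := hP
  have hts : F.t * F.s₁ = F.s₂ := by
    show F.s₁ * F.s₂ * F.s₁ = F.s₂
    rw [F.s_comm, mul_assoc, F.s₁_sq, mul_one]
  obtain ⟨M, E, D, hzE⟩ := hE G P F.s₁ F.s₁_sq hs hsout hp hi1 hi2 (by rw [hz]; exact hF.1)
    (by rw [hz, hts]; exact hF.2)
  obtain ⟨P', hz', hf1, hf2, hQ, hI⟩ := H47.G23.exists_std P D hzE
  have hzE' : P'.z ∈ E := by rw [hz']; exact hzE
  obtain ⟨Γ, -⟩ := H47.G23.exists_gdata P' D hzE' hf1 hf2 hQ hI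
  obtain ⟨U, -⟩ := H47.G23.exists_udata Γ
  obtain ⟨e⟩ := U.equiv
  obtain ⟨e2⟩ := H55.G2.nonempty_equiv_G2 (F := ZMod 3) (by rw [ZMod.card]; decide)
  exact ⟨(e.trans e2).trans (g2Equiv (FiniteField.ringEquivOfCardEq (K := ZMod 3) (K' := K) (by
    rw [ZMod.card, hK])))⟩

end H40.G23A
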